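import Mathlib

/-!
# Alternating sums and the composition of differential operators, algebraically
-/

set_option autoImplicit false

universe u

open Finset

namespace Groth.Agent.DiffOp

variable {B M N P : Type*} [CommRing B] [AddCommGroup M] [Module B M] [AddCommGroup N] [Module B N]
  [AddCommGroup P] [Module B P]

/-- `∑_{H ⊆ s} (-1)^|H| (∏_H a) • D ((∏_{s \ H} a) • t)`. -/
def alt {ι : Type} [DecidableEq ι] (a : ι → B) (s : Finset ι) (D : M →+ N) (t : M) : N :=
  ∑ H ∈ s.powerset, ((-1 : ℤ) ^ H.card) • ((∏ i ∈ H, a i) • D ((∏ i ∈ s \ H, a i) • t))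

/-- The commutator of `D` with a scalar. -/
def ad (c : B) (D : M →+ N) : M →+ N :=
  D.comp (DistribSMul.toAddMonoidHom M c) - (DistribSMul.toAddMonoidHom N c).comp D

theorem ad_apply (c : B) (D : M →+ N) (t : M) : ad c D t = D (c • t) - c • D t := rfl

/-- All alternating sums of length `k` vanish. -/
def Ord (k : ℕ) (D : M →+ N) : Prop :=
  ∀ {ι : Type} [DecidableEq ι] (a : ι → B) (s : Finset ι), s.card = k → ∀ t, alt a s D t = 0

variable {ι : Type} [DecidableEq ι]

theorem alt_empty (a : ι → B) (D : M →+ N) (t : M) : alt a ∅ D t = D t := by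
  simp [alt]

theorem alt_insert (a : ι → B) {i : ι} {s : Finset ι} (hi : i ∉ s) (D : M →+ N) (t : M) :
    alt a (insert i s) D t = alt a s (ad (a i) D) t := by
  unfold alt
  rw [Finset.sum_powerset_insert hi, ← Finset.sum_add_distrib]
  refine Finset.sum_congr rfl fun H hH => ?_
  have hH' := Finset.mem_powerset.1 hH
  have hiH : i ∉ H := fun h => hi (hH' h)
  rw [Finset.card_insert_of_notMem hiH, Finset.prod_insert hiH, Finset.insert_sdiff_of_notMem _ hiH,
    Finset.prod_insert (fun h => hi (Finset.mem_sdiff.1 h).1),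
    Finset.insert_sdiff_insert, Finset.sdiff_insert_of_notMem hi, ad_apply, smul_sub, smul_sub, pow_succ,
    mul_neg_one, neg_smul, mul_smul, mul_smul, smul_comm (a i) (∏ x ∈ H, a x)]
  abel

theorem ord_zero_iff (D : M →+ N) : Ord (B := B) 0 D ↔ D = 0 := by
  constructor
  · intro h
    ext t
    simpa [alt_empty] using h (ι := ℕ) (fun _ => (0 : B)) ∅ rfl t
  · rintro rfl ι _ a s hs t
    rw [Finset.card_eq_zero.1 hs, alt_empty]
    rfl

theorem Ord.ad {k : ℕ} {D : M →+ N} (h : Ord (B := B) (k + 1) D) (c : B) : Ord (B := B) k (DiffOp.ad c D) := by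
  intro ι _ a s hs t
  let a' : Option ι → B := fun o => o.elim c a
  have := h a' (insert none (s.map Function.Embedding.some)) (by
    rw [Finset.card_insert_of_notMem (by simp), Finset.card_map, hs]) t
  rw [alt_insert a' (by simp)] at this
  refine Eq.trans ?_ this
  unfold alt
  rw [Finset.sum_bij (fun H _ => H.map Function.Embedding.some)]
  · intro H hH
    rw [Finset.mem_powerset] at hH ⊢
    exact Finset.map_subset_map.2 hH
  · intro H _ H' _ e
    exact Finset.map_injective _ e
  · intro H hH
    rw [Finset.mem_powerset] at hH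
    obtain ⟨u, hu, rfl⟩ := Finset.subset_map_iff.1 hH
    exact ⟨u, Finset.mem_powerset.2 hu, rfl⟩
  · intro H _
    rw [Finset.card_map, Finset.prod_map, ← Finset.map_sdiff, Finset.prod_map]
    rfl

theorem alt_add (a : ι → B) (s : Finset ι) (D D' : M →+ N) (t : M) :
    alt a s (D + D') t = alt a s D t + alt a s D' t := by
  unfold alt
  rw [← Finset.sum_add_distrib]
  exact Finset.sum_congr rfl fun H _ => by rw [AddMonoidHom.add_apply, smul_add, smul_add]

theorem ad_comp (c : B) (D : M →+ N) (D' : N →+ P) :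
    DiffOp.ad c (D'.comp D) = D'.comp (DiffOp.ad c D) + (DiffOp.ad c D').comp D := by
  ext t
  simp only [ad_apply, AddMonoidHom.comp_apply, AddMonoidHom.add_apply, map_sub]
  abel

/-- Orders add up under composition. -/
theorem Ord.comp : ∀ {m k k' : ℕ}, k + k' = m + 1 → ∀ {D : M →+ N} {D' : N →+ P},
    Ord (B := B) k D → Ord (B := B) k' D' → Ord (B := B) m (D'.comp D) := by
  intro m
  induction m with
  | zero =>
    intro k k' hk D D' hD hD'
    rw [ord_zero_iff]
    rcases k with _ | k
    · rw [(ord_zero_iff D).1 hD]; ext; simp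
    · obtain rfl : k' = 0 := by omega
      rw [(ord_zero_iff D').1 hD']; ext; simp
  | succ m ih =>
    intro k k' hk D D' hD hD' ι _ a s hs t
    obtain ⟨i, s', hi, rfl, hs'⟩ := Finset.card_eq_succ.1 hs
    rw [alt_insert a hi, ad_comp, alt_add]
    have h1 : alt a s' (D'.comp (DiffOp.ad (a i) D)) t = 0 := by
      rcases k with _ | k
      · rw [(ord_zero_iff D).1 hD]
        exact Finset.sum_eq_zero fun H _ => by simp [DiffOp.ad]
      · exact ih (k := k) (k' := k') (by omega) (hD.ad _) hD' a s' hs' t
    have h2 : alt a s' ((DiffOp.ad (a i) D').comp D) t = 0 := by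
      rcases k' with _ | k'
      · rw [(ord_zero_iff D').1 hD']
        exact Finset.sum_eq_zero fun H _ => by simp [DiffOp.ad]
      · exact ih (k := k) (k' := k') (by omega) hD (hD'.ad _) a s' hs' t
    rw [h1, h2, add_zero]

end Groth.Agent.DiffOp
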