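import Groth.Prelude.Def_OmegaPn
import Groth.Agent.DiffOp.Alt
import Groth.Agent.QC.Basic
import Mathlib.RingTheory.Kaehler.Basic
import Mathlib.AlgebraicGeometry.Morphisms.ClosedImmersion

/-!
# Functions on the thickened diagonal over an affine piece
-/

set_option autoImplicit false
set_option backward.isDefEq.respectTransparency false
set_option backward.isDefEq.respectTransparency.types false
set_option linter.style.haveILetI false

universe u

open CategoryTheory CategoryTheory.Limits AlgebraicGeometry TopologicalSpace Opposite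
open scoped TensorProduct Pointwise

noncomputable section

namespace Groth.Agent.DiffOp

/-- The algebraic statement: a differential operator extends along `B ⊗ B / I^(n+1)`. -/
theorem exists_extension {A B M G : Type*} [CommRing A] [CommRing B] [Algebra A B] [AddCommGroup M] [Module B M]
    [AddCommGroup G] [Module B G] {C : Type*} [CommRing C] (θ : B ⊗[A] B →+* C) (n : ℕ)
    (hs : Function.Surjective θ) (hk : RingHom.ker θ ≤ KaehlerDifferential.ideal A B ^ (n + 1))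
    (D : M →+ G) (hord : Ord (B := B) (n + 1) D)
    (hlin : ∀ (r : A) (t : M), D (algebraMap A B r • t) = algebraMap A B r • D t) (t : M) :
    ∃ h : C →+ G, ∀ a b : B, h (θ (a ⊗ₜ b)) = a • D (b • t) := by
  classical
  let Φ : B ⊗[A] B →+ G := TensorProduct.liftAddHom
    (AddMonoidHom.mk' (fun a : B => AddMonoidHom.mk' (fun b : B => a • D (b • t))
        fun b b' => by rw [add_smul, map_add, smul_add])
      fun a a' => by ext b; exact add_smul a a' _)
    fun r a b => by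
      show (r • a) • D (b • t) = a • D ((r • b) • t)
      rw [Algebra.smul_def, Algebra.smul_def, mul_smul (algebraMap A B r) b, hlin, smul_smul, mul_comm]
  have hΦ : ∀ a b, Φ (a ⊗ₜ b) = a • D (b • t) := fun _ _ => rfl
  have key : ∀ (a : Fin (n + 1) → B) (w : B ⊗[A] B),
      Φ ((∏ i, ((1 : B) ⊗ₜ[A] a i - a i ⊗ₜ[A] (1 : B))) * w) = 0 := by
    intro a w
    induction w using TensorProduct.induction_on with
    | zero => rw [mul_zero, map_zero]
    | add x y hx hy => rw [mul_add, map_add, hx, hy, add_zero]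
    | tmul c d =>
      rw [Finset.prod_sub, Finset.sum_mul, map_sum]
      refine Eq.trans ?_ (smul_zero c)
      rw [← hord a Finset.univ (Finset.card_fin _) (d • t), alt, Finset.smul_sum]
      refine Finset.sum_congr rfl fun H _ => ?_
      have h1 : ∀ s : Finset (Fin (n + 1)), ∏ i ∈ s, (a i ⊗ₜ[A] (1 : B)) = (∏ i ∈ s, a i) ⊗ₜ[A] 1 := fun s =>
        (map_prod (Algebra.TensorProduct.includeLeftRingHom : B →+* B ⊗[A] B) a s).symm
      have h2 : ∀ s : Finset (Fin (n + 1)), ∏ i ∈ s, ((1 : B) ⊗ₜ[A] a i) = 1 ⊗ₜ[A] (∏ i ∈ s, a i) := fun s =>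
        (map_prod (Algebra.TensorProduct.includeRight : B →ₐ[A] B ⊗[A] B).toRingHom a s).symm
      rw [h1, h2, show ((-1 : B ⊗[A] B) ^ H.card) = (((-1 : ℤ) ^ H.card : ℤ) : B ⊗[A] B) by push_cast; rfl,
        mul_assoc, mul_assoc, ← zsmul_eq_mul, map_zsmul, smul_comm c ((-1 : ℤ) ^ H.card)]
      simp only [← mul_assoc, Algebra.TensorProduct.tmul_mul_tmul, one_mul, mul_one]
      rw [hΦ, smul_smul (∏ i ∈ Finset.univ \ H, a i), smul_smul c, mul_comm c]
  have hI : ∀ z ∈ KaehlerDifferential.ideal A B ^ (n + 1), Φ z = 0 := by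
    intro z hz
    suffices ∀ w, Φ (z * w) = 0 by simpa using this 1
    rw [← KaehlerDifferential.span_range_eq_ideal, Ideal.span, Submodule.span_pow] at hz
    induction hz using Submodule.span_induction with
    | mem x hx =>
      intro w
      obtain ⟨g, rfl⟩ := Set.mem_pow.1 hx
      choose a ha using fun i => (g i).2
      rw [List.prod_ofFn, Finset.prod_congr rfl fun i _ => (ha i).symm]
      exact key a w
    | zero => intro w; rw [zero_mul, map_zero]
    | add x y _ _ hx hy => intro w; rw [add_mul, map_add, hx, hy, add_zero]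
    | smul c x _ hx => intro w; rw [smul_eq_mul, mul_comm c, mul_assoc]; exact hx _
  choose σ hσ using hs
  refine ⟨AddMonoidHom.mk' (fun c => Φ (σ c)) fun c c' => ?_, fun a b => ?_⟩
  · rw [← map_add, ← sub_eq_zero, ← map_sub]
    exact hI _ (hk (by rw [RingHom.mem_ker, map_sub, map_add, hσ, hσ, hσ, sub_self]))
  · show Φ (σ _) = _
    rw [← hΦ, ← sub_eq_zero, ← map_sub]
    exact hI _ (hk (by rw [RingHom.mem_ker, map_sub, hσ, sub_self]))

theorem appLE_eq_zero_iff {Y Z : Scheme.{u}} (c : Z ⟶ Y) {O : Y.Opens} {U : Z.Opens} (h : U = c ⁻¹ᵁ O)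
    (r : Γ(Y, O)) : c.appLE O U h.le r = 0 ↔ c.app O r = 0 := by
  subst h
  rw [Scheme.Hom.app_eq_appLE]

theorem appLE_surjective {Y Z : Scheme.{u}} (c : Z ⟶ Y) {O : Y.Opens} {U : Z.Opens} (h : U = c ⁻¹ᵁ O)
    (hs : Function.Surjective (c.app O)) : Function.Surjective (c.appLE O U h.le) := by
  subst h
  rwa [← Scheme.Hom.app_eq_appLE]

theorem SpecMap_fromSpec_appLE {X : Scheme.{u}} {U : X.Opens} (hU : IsAffineOpen U) {R : CommRingCat.{u}}
    (i : Γ(X, U) ⟶ R) (e : ⊤ ≤ (Spec.map i ≫ hU.fromSpec) ⁻¹ᵁ U) :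
    (Spec.map i ≫ hU.fromSpec).appLE U ⊤ e ≫ (Scheme.ΓSpecIso R).hom = i := by
  have h1 : hU.fromSpec.appLE U ⊤ hU.fromSpec_preimage_self.ge = (Scheme.ΓSpecIso Γ(X, U)).inv := by
    rw [Scheme.Hom.appLE, hU.fromSpec_app_self, Category.assoc, ← Functor.map_comp]
    simp
  rw [← Scheme.Hom.appLE_comp_appLE _ _ U ⊤ ⊤ hU.fromSpec_preimage_self.ge le_top, h1, Category.assoc,
    show (Spec.map i).appLE ⊤ ⊤ le_top = (Spec.map i).appTop from (Scheme.Hom.app_eq_appLE (Spec.map i)).symm,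
    Scheme.ΓSpecIso_naturality, Iso.inv_hom_id_assoc]

/-- The ring of the thickened diagonal over an affine piece is `B ⊗_A B / I^(n+1)`. -/
theorem exists_theta {X S : Scheme.{u}} (f : X ⟶ S) (n : ℕ) {U : X.Opens} (hU : IsAffineOpen U) {V : S.Opens}
    (hV : IsAffineOpen V) (e : U ≤ f ⁻¹ᵁ V) :
    letI := (f.appLE V U e).hom.toAlgebra
    ∃ θ : Γ(X, U) ⊗[Γ(S, V)] Γ(X, U) →+* Γ(PrinPart.nbhd f n, PrinPart.pr1 f n ⁻¹ᵁ U),
      Function.Surjective θ ∧ RingHom.ker θ ≤ KaehlerDifferential.ideal Γ(S, V) Γ(X, U) ^ (n + 1) ∧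
      ∀ a b, θ (a ⊗ₜ b) = (PrinPart.pr1 f n).app U a *
        (PrinPart.pr2 f n).appLE U _ (PrinPart.preimage_pr1 f n U).le b := by
  letI := (f.appLE V U e).hom.toAlgebra
  let φ : Spec Γ(X, U) ⟶ Spec Γ(S, V) := Spec.map (CommRingCat.ofHom (algebraMap Γ(S, V) Γ(X, U)))
  have hφ : φ ≫ hV.fromSpec = hU.fromSpec ≫ f := hV.SpecMap_appLE_fromSpec f hU e
  let R : CommRingCat.{u} := CommRingCat.of (Γ(X, U) ⊗[Γ(S, V)] Γ(X, U))
  let J : Spec R ⟶ pullback f f := (pullbackSpecIso Γ(S, V) Γ(X, U) Γ(X, U)).inv ≫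
    pullback.map φ φ f f hU.fromSpec hU.fromSpec hV.fromSpec hφ hφ
  let i1 : Γ(X, U) ⟶ R := CommRingCat.ofHom Algebra.TensorProduct.includeLeftRingHom
  let i2 : Γ(X, U) ⟶ R := CommRingCat.ofHom
    (Algebra.TensorProduct.includeRight : Γ(X, U) →ₐ[Γ(S, V)] Γ(X, U) ⊗[Γ(S, V)] Γ(X, U)).toRingHom
  let m : R ⟶ Γ(X, U) := CommRingCat.ofHom
    (Algebra.TensorProduct.lmul' Γ(S, V) : Γ(X, U) ⊗[Γ(S, V)] Γ(X, U) →ₐ[Γ(S, V)] Γ(X, U)).toRingHom
  have hJ1 : J ≫ pullback.fst f f = Spec.map i1 ≫ hU.fromSpec := by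
    simp only [J, Category.assoc, pullback.lift_fst]
    rw [← Category.assoc, pullbackSpecIso_inv_fst]
  have hJ2 : J ≫ pullback.snd f f = Spec.map i2 ≫ hU.fromSpec := by
    simp only [J, Category.assoc, pullback.lift_snd]
    rw [← Category.assoc, pullbackSpecIso_inv_snd]
    rfl
  have hm1 : i1 ≫ m = 𝟙 _ := by
    ext b; exact (Algebra.TensorProduct.lmul'_apply_tmul b 1).trans (mul_one b)
  have hm2 : i2 ≫ m = 𝟙 _ := by
    ext b; exact (Algebra.TensorProduct.lmul'_apply_tmul 1 b).trans (one_mul b)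
  have hJΔ : Spec.map m ≫ J = hU.fromSpec ≫ pullback.diagonal f := by
    apply pullback.hom_ext
    · rw [Category.assoc, hJ1, ← Category.assoc, ← Spec.map_comp, hm1, Spec.map_id, Category.id_comp,
        Category.assoc, pullback.diagonal_fst, Category.comp_id]
    · rw [Category.assoc, hJ2, ← Category.assoc, ← Spec.map_comp, hm2, Spec.map_id, Category.id_comp,
        Category.assoc, pullback.diagonal_snd, Category.comp_id]
  haveI : IsOpenImmersion J := inferInstance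
  have hmem : ∀ (x : X) r, pullback.diagonal f x = J r → x ∈ U := fun x r h => by
    have : pullback.fst f f (pullback.diagonal f x) = x := by
      rw [← Scheme.Hom.comp_apply, pullback.diagonal_fst]; rfl
    rw [← this, h, ← Scheme.Hom.comp_apply, hJ1, ← SetLike.mem_coe, ← hU.range_fromSpec]
    exact ⟨_, rfl⟩
  have hpre : ⇑J ⁻¹' Set.range (pullback.diagonal f) ⊆ Set.range (Spec.map m) := by
    rintro r ⟨x, hx⟩
    obtain ⟨y, rfl⟩ : x ∈ Set.range hU.fromSpec := by rw [hU.range_fromSpec]; exact hmem x r hx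
    refine ⟨y, J.isOpenEmbedding.injective ?_⟩
    rw [← hx, ← Scheme.Hom.comp_apply, hJΔ]
    rfl
  have hclosed : IsClosed (Set.range (Spec.map m)) := by
    haveI : IsClosedImmersion (Spec.map m) := IsClosedImmersion.spec_of_surjective m fun b => ⟨i1 b,
      congr($hm1 b)⟩
    exact (Spec.map m).isClosedEmbedding.isClosed_range
  let C := (pullback.diagonal f).coborderRange
  have hC : Set.range J ⊆ Set.range C.ι := by
    rw [Scheme.Opens.range_ι]
    rintro _ ⟨r, rfl⟩ ⟨h1, h2⟩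
    obtain ⟨y, rfl⟩ := hclosed.closure_eq.le
      (closure_mono hpre (J.isOpenEmbedding.isOpenMap.preimage_closure_subset_closure_preimage h1))
    exact h2 ⟨hU.fromSpec y, by rw [← Scheme.Hom.comp_apply, ← hJΔ]; rfl⟩
  let j : Spec R ⟶ (C : Scheme.{u}) := IsOpenImmersion.lift C.ι J hC
  have hj : j ≫ C.ι = J := IsOpenImmersion.lift_fac _ _ _
  haveI : IsOpenImmersion (j ≫ C.ι) := by rw [hj]; infer_instance
  haveI : IsOpenImmersion j := IsOpenImmersion.of_comp j C.ι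
  let c := PrinPart.diagCl f
  have hc : c ≫ C.ι = pullback.diagonal f := Scheme.Hom.liftCoborder_ι _
  have hjc : Spec.map m ≫ j = hU.fromSpec ≫ c := by
    rw [← cancel_mono C.ι, Category.assoc, Category.assoc, hj, hc]; exact hJΔ
  let O : C.toScheme.Opens := j ''ᵁ ⊤
  have hO : IsAffineOpen O := (isAffineOpen_top _).image_of_isOpenImmersion j
  have eO : ⊤ ≤ j ⁻¹ᵁ O := (j.preimage_image_eq ⊤).ge
  let σ : Γ(C.toScheme, O) ⟶ R := j.appLE O ⊤ eO ≫ (Scheme.ΓSpecIso R).hom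
  haveI : IsIso (j.appLE O ⊤ eO) := by
    rw [← Scheme.Hom.appIso_hom']
    infer_instance
  have hσ : Function.Bijective σ := ConcreteCategory.bijective_of_isIso σ
  have hcO : U = c ⁻¹ᵁ O := by
    ext x
    constructor
    · intro hx
      obtain ⟨y, rfl⟩ : x ∈ Set.range hU.fromSpec := by rw [hU.range_fromSpec]; exact hx
      refine ⟨Spec.map m y, trivial, ?_⟩
      show j (Spec.map m y) = c (hU.fromSpec y)
      rw [← Scheme.Hom.comp_apply, hjc]
      rfl
    · rintro ⟨r, -, hr⟩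
      refine hmem x r ?_
      rw [← hc, ← hj, Scheme.Hom.comp_apply, Scheme.Hom.comp_apply]
      exact congrArg C.ι hr.symm
  have hσc : c.appLE O U hcO.le = σ ≫ m := by
    have hk : ∀ (g g' : Spec Γ(X, U) ⟶ (C : Scheme.{u})) (_ : g = g') e₁ e₂,
        g.appLE O ⊤ e₁ = g'.appLE O ⊤ e₂ := by rintro g g' rfl e₁ e₂; rfl
    have h1 : hU.fromSpec.appLE U ⊤ hU.fromSpec_preimage_self.ge ≫ (Scheme.ΓSpecIso Γ(X, U)).hom = 𝟙 _ := by
      have := SpecMap_fromSpec_appLE hU (𝟙 _) (by rw [Spec.map_id, Category.id_comp]; exact hU.fromSpec_preimage_self.ge)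
      simpa using this
    calc c.appLE O U hcO.le
        = c.appLE O U hcO.le ≫ hU.fromSpec.appLE U ⊤ hU.fromSpec_preimage_self.ge ≫
            (Scheme.ΓSpecIso Γ(X, U)).hom := by rw [h1, Category.comp_id]
      _ = (hU.fromSpec ≫ c).appLE O ⊤ _ ≫ (Scheme.ΓSpecIso Γ(X, U)).hom := by
          rw [← Category.assoc, Scheme.Hom.appLE_comp_appLE]
      _ = (Spec.map m ≫ j).appLE O ⊤ (fun y hy => eO (trivial : Spec.map m y ∈ (⊤ : (Spec R).Opens))) ≫
            (Scheme.ΓSpecIso Γ(X, U)).hom := by rw [hk _ _ hjc.symm]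
      _ = σ ≫ m := by
          rw [← Scheme.Hom.appLE_comp_appLE _ _ O ⊤ ⊤ eO le_top, show (Spec.map m).appLE ⊤ ⊤ le_top = (Spec.map m).appTop from (Scheme.Hom.app_eq_appLE (Spec.map m)).symm,
            Category.assoc,
            Scheme.ΓSpecIso_naturality]
          rfl
  let ν := PrinPart.infNbhdι c n
  have hνO : PrinPart.pr1 f n ⁻¹ᵁ U = ν ⁻¹ᵁ O := by
    ext z
    obtain ⟨x, rfl⟩ := PrinPart.toInfNbhd_surjective c n z
    change PrinPart.pr1 f n (PrinPart.toNbhd f n x) ∈ U ↔ ν (PrinPart.toInfNbhd c n x) ∈ O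
    rw [← Scheme.Hom.comp_apply, ← Scheme.Hom.comp_apply, PrinPart.toNbhd_pr1, PrinPart.toInfNbhd_ι, hcO]
    rfl
  let σe : Γ(C.toScheme, O) ≃+* R := RingEquiv.ofBijective σ.hom hσ
  let θ : R →+* Γ(PrinPart.nbhd f n, PrinPart.pr1 f n ⁻¹ᵁ U) :=
    (ν.appLE O _ hνO.le).hom.comp σe.symm.toRingHom
  let T : C.toScheme.affineOpens := ⟨O, hO⟩
  refine ⟨θ, ?_, ?_, ?_⟩
  · exact (appLE_surjective ν hνO ((c.ker ^ (n + 1)).subschemeι_app_surjective T)).comp σe.symm.surjective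
  · intro z hz
    obtain ⟨r, rfl⟩ := σe.surjective z
    rw [RingHom.mem_ker] at hz
    change ν.appLE O _ hνO.le (σe.symm (σe r)) = 0 at hz
    rw [σe.symm_apply_apply, appLE_eq_zero_iff ν hνO] at hz
    have hr : r ∈ (c.ker ^ (n + 1)).ideal T := by
      rw [← (c.ker ^ (n + 1)).ker_subschemeι_app T]; exact hz
    rw [Scheme.IdealSheafData.ideal_pow, Pi.pow_apply] at hr
    have hle : (c.ker.ideal T).map σe.toRingHom ≤ KaehlerDifferential.ideal Γ(S, V) Γ(X, U) := by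
      rw [Ideal.map_le_iff_le_comap]
      intro s hs
      rw [Scheme.Hom.ker_apply, RingHom.mem_ker] at hs
      have h1 := (appLE_eq_zero_iff c hcO s).2 hs
      rw [hσc] at h1
      exact RingHom.mem_ker.2 h1
    refine Ideal.pow_right_mono hle (n + 1) ?_
    rw [← Ideal.map_pow]
    exact Ideal.mem_map_of_mem _ hr
  · intro a b
    have k : ∀ (pp : pullback f f ⟶ X) (ii : Γ(X, U) ⟶ R) (qq : PrinPart.nbhd f n ⟶ X)
        (_ : J ≫ pp = Spec.map ii ≫ hU.fromSpec) (_ : PrinPart.nbhdι f n ≫ pp = qq)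
        (eO' : O ≤ (C.ι ≫ pp) ⁻¹ᵁ U) (eq' : PrinPart.pr1 f n ⁻¹ᵁ U ≤ qq ⁻¹ᵁ U) (a : Γ(X, U)),
        θ (ii a) = qq.appLE U _ eq' a := by
      intro pp ii qq hpp hqq eO' eq' a
      have hs : σ ((C.ι ≫ pp).appLE U O eO' a) = ii a := by
        have hk : ∀ (g g' : Spec R ⟶ X) (_ : g = g') e₁ e₂, g.appLE U ⊤ e₁ = g'.appLE U ⊤ e₂ := by
          rintro g g' rfl e₁ e₂; rfl
        have hh : (C.ι ≫ pp).appLE U O eO' ≫ σ = ii := by
          simp only [σ]
          rw [← Category.assoc, Scheme.Hom.appLE_comp_appLE,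
            hk _ _ (by rw [← Category.assoc, hj, hpp] : j ≫ C.ι ≫ pp = Spec.map ii ≫ hU.fromSpec) _
              (fun y _ => by
                change hU.fromSpec (Spec.map ii y) ∈ U
                rw [← SetLike.mem_coe, ← hU.range_fromSpec]; exact ⟨_, rfl⟩),
            SpecMap_fromSpec_appLE hU ii]
        exact congr($hh a)
      rw [← hs]
      change ν.appLE O _ hνO.le (σe.symm (σe _)) = _
      rw [σe.symm_apply_apply]
      have hk : ∀ (g g' : PrinPart.nbhd f n ⟶ X) (_ : g = g') e₁ e₂,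
          g.appLE U (PrinPart.pr1 f n ⁻¹ᵁ U) e₁ a = g'.appLE U (PrinPart.pr1 f n ⁻¹ᵁ U) e₂ a := by
        rintro g g' rfl e₁ e₂; rfl
      rw [← CommRingCat.comp_apply, Scheme.Hom.appLE_comp_appLE]
      exact hk _ _ (by rw [← hqq, PrinPart.nbhdι, Category.assoc]) _ _
    have eOp : ∀ (pp : pullback f f ⟶ X) (ii : Γ(X, U) ⟶ R), J ≫ pp = Spec.map ii ≫ hU.fromSpec →
        O ≤ (C.ι ≫ pp) ⁻¹ᵁ U := by
      rintro pp ii hpp _ ⟨r, -, rfl⟩
      change (C.ι ≫ pp) (j r) ∈ U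
      rw [← Scheme.Hom.comp_apply, ← Category.assoc, hj, hpp, ← SetLike.mem_coe, ← hU.range_fromSpec]
      exact ⟨_, rfl⟩
    have hab : (a ⊗ₜ[Γ(S, V)] b : R) = i1 a * i2 b := by
      show a ⊗ₜ[Γ(S, V)] b = (a ⊗ₜ[Γ(S, V)] (1 : Γ(X, U))) * ((1 : Γ(X, U)) ⊗ₜ[Γ(S, V)] b)
      rw [Algebra.TensorProduct.tmul_mul_tmul, _root_.mul_one, _root_.one_mul]
    rw [hab, map_mul, k _ i1 (PrinPart.pr1 f n) hJ1 rfl (eOp _ _ hJ1) le_rfl,
      k _ i2 (PrinPart.pr2 f n) hJ2 rfl (eOp _ _ hJ2) (PrinPart.preimage_pr1 f n U).le,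
      ← Scheme.Hom.app_eq_appLE]

end Groth.Agent.DiffOp
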