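import Groth.Agent.DiffOp.Coind
import Groth.Agent.DiffOp.Thick
import Groth.Agent.PrinSheaf.Gen
import Groth.Agent.PrinSheaf.Nilp

/-!
# The commutator description of differential operators
-/

set_option autoImplicit false
set_option backward.isDefEq.respectTransparency false
set_option backward.isDefEq.respectTransparency.types false
set_option linter.style.haveILetI false

universe u

open CategoryTheory CategoryTheory.Limits AlgebraicGeometry TopologicalSpace Opposite

noncomputable section

namespace Groth.Agent.DiffOp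

open Groth.Agent.QC

variable {X S : Scheme.{u}} (f : X ⟶ S) {F G : X.Modules} (D : F.presheaf ⟶ G.presheaf) (n : ℕ)

/-- The components of an operator, additively. -/
def dh (U : X.Opens) : Γ(F, U) →+ Γ(G, U) := (D.app (op U)).hom

theorem res_dh {U U' : X.Opens} (h : U' ≤ U) (t : Γ(F, U)) : res G h (dh D U t) = dh D U' (res F h t) :=
  (congr($(D.naturality (homOfLE h).op) t)).symm

/-- Linearity for the functions coming from the base. -/
def Lin : Prop :=
  ∀ (V : S.Opens) (s : Γ(S, V)) (U : X.Opens) (hU : U ≤ f ⁻¹ᵁ V) (t : Γ(F, U)),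
    D.app (op U) (X.presheaf.map (homOfLE hU).op (f.app V s) • t) =
      X.presheaf.map (homOfLE hU).op (f.app V s) • D.app (op U) t

/-- `pr₂^#` on the preimage of an open under `pr₁`. -/
abbrev qmap (U : X.Opens) : Γ(X, U) →+* Γ(PrinPart.nbhd f n, PrinPart.pr1 f n ⁻¹ᵁ U) :=
  ((PrinPart.pr2 f n).appLE U _ (PrinPart.preimage_pr1 f n U).le).hom

/-- `pr₁^#`. -/
abbrev pmap (U : X.Opens) : Γ(X, U) →+* Γ(PrinPart.nbhd f n, PrinPart.pr1 f n ⁻¹ᵁ U) :=
  ((PrinPart.pr1 f n).app U).hom

theorem resO_qmap {U U' : X.Opens} (h : U' ≤ U) (b : Γ(X, U)) :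
    resO _ ((PrinPart.pr1 f n).preimage_mono h) (qmap f n U b) = qmap f n U' (resO X h b) := by
  simp only [qmap, resO, ← CommRingCat.comp_apply, Scheme.Hom.appLE_map, Scheme.Hom.map_appLE]

theorem resO_pmap {U U' : X.Opens} (h : U' ≤ U) (a : Γ(X, U)) :
    resO _ ((PrinPart.pr1 f n).preimage_mono h) (pmap f n U a) = pmap f n U' (resO X h a) :=
  (congr($((PrinPart.pr1 f n).naturality (homOfLE h).op) a)).symm

/-- An open on which the functions of the thickening are `B ⊗_A B / I^(n+1)`. -/
def Small (U : X.Opens) : Prop := IsAffineOpen U ∧ ∃ V : S.Opens, IsAffineOpen V ∧ U ≤ f ⁻¹ᵁ V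

theorem exists_small {U : X.Opens} {x : X} (hx : x ∈ U) : ∃ U', Small f U' ∧ x ∈ U' ∧ U' ≤ U := by
  obtain ⟨V, hV, hxV, -⟩ := exists_isAffineOpen_mem_and_subset (X := S) (x := f x) (U := ⊤) trivial
  obtain ⟨U', hU', hxU', hle⟩ := exists_isAffineOpen_mem_and_subset (show x ∈ U ⊓ f ⁻¹ᵁ V from ⟨hx, hxV⟩)
  exact ⟨U', ⟨hU', V, hV, hle.trans inf_le_right⟩, hxU', hle.trans inf_le_left⟩

/-- The defining property of the extension of `D` at a section. -/
def IsExt (U : X.Opens) (t : Γ(F, U)) (h : Γ(PrinPart.nbhd f n, PrinPart.pr1 f n ⁻¹ᵁ U) →+ Γ(G, U)) : Prop :=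
  ∀ a b : Γ(X, U), h (pmap f n U a * qmap f n U b) = a • dh D U (b • t)

theorem small_induction {U : X.Opens} (hU : Small f U)
    (P : Γ(PrinPart.nbhd f n, PrinPart.pr1 f n ⁻¹ᵁ U) → Prop) (h0 : P 0) (hadd : ∀ c d, P c → P d → P (c + d))
    (hmul : ∀ a b : Γ(X, U), P (pmap f n U a * qmap f n U b)) (c) : P c := by
  obtain ⟨hU1, V, hV, e⟩ := hU
  refine PrinSheaf.induction_sections f n hU1 hV e P h0 hadd (fun a b => ?_) c
  rw [← Scheme.Hom.app_eq_appLE]
  exact hmul a b

variable {D}

theorem exists_isExt (hlin : Lin f D) (hord : ∀ U, Ord (B := Γ(X, U)) (n + 1) (dh D U)) {U : X.Opens}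
    (hU : Small f U) (t : Γ(F, U)) : ∃ h, IsExt f D n U t h := by
  obtain ⟨hU1, V, hV, e⟩ := hU
  letI := (f.appLE V U e).hom.toAlgebra
  obtain ⟨θ, hs, hk, hθ⟩ := exists_theta f n hU1 hV e
  obtain ⟨h, hh⟩ := exists_extension θ n hs hk (dh D U) (hord U) (fun r t => hlin V r U e t) t
  exact ⟨h, fun a b => by rw [← hh, hθ]⟩

section Glue

variable (hlin : Lin f D) (hord : ∀ U, Ord (B := Γ(X, U)) (n + 1) (dh D U))

/-- The extension on a small open. -/
def loc {U : X.Opens} (hU : Small f U) (t : Γ(F, U)) :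
    Γ(PrinPart.nbhd f n, PrinPart.pr1 f n ⁻¹ᵁ U) →+ Γ(G, U) :=
  (exists_isExt f n hlin hord hU t).choose

theorem loc_spec {U : X.Opens} (hU : Small f U) (t : Γ(F, U)) (a b : Γ(X, U)) :
    loc f n hlin hord hU t (pmap f n U a * qmap f n U b) = a • dh D U (b • t) :=
  (exists_isExt f n hlin hord hU t).choose_spec a b

theorem res_loc {U U' : X.Opens} (hU : Small f U) (hU' : Small f U') (h : U' ≤ U) (t : Γ(F, U))
    (c : Γ(PrinPart.nbhd f n, PrinPart.pr1 f n ⁻¹ᵁ U)) :
    res G h (loc f n hlin hord hU t c) =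
      loc f n hlin hord hU' (res F h t) (resO _ ((PrinPart.pr1 f n).preimage_mono h) c) := by
  refine small_induction f n hU (fun c => res G h (loc f n hlin hord hU t c) = loc f n hlin hord hU' (res F h t)
    (resO _ ((PrinPart.pr1 f n).preimage_mono h) c)) (by simp only [map_zero])
    (fun c d hc hd => by simp only [map_add, hc, hd]) (fun a b => ?_) c
  rw [loc_spec, (resO _ _).map_mul, resO_pmap, resO_qmap, loc_spec, res_smul, res_dh, res_smul]

/-- The defining property on an arbitrary open. -/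
def IsExtAll (U : X.Opens) (t : Γ(F, U)) (c : Γ(PrinPart.nbhd f n, PrinPart.pr1 f n ⁻¹ᵁ U)) (y : Γ(G, U)) : Prop :=
  ∀ (U' : X.Opens) (h : U' ≤ U) (hU' : Small f U'),
    res G h y = loc f n hlin hord hU' (res F h t) (resO _ ((PrinPart.pr1 f n).preimage_mono h) c)

theorem existsUnique_beta (U : X.Opens) (t : Γ(F, U)) (c : Γ(PrinPart.nbhd f n, PrinPart.pr1 f n ⁻¹ᵁ U)) :
    ∃! y, IsExtAll f n hlin hord U t c y := by
  let ι := {U' : X.Opens // U' ≤ U ∧ Small f U'}
  have hg : ∃! y : Γ(G, U), ∀ i : ι, res G i.2.1 y =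
      loc f n hlin hord i.2.2 (res F i.2.1 t) (resO _ ((PrinPart.pr1 f n).preimage_mono i.2.1) c) := by
    refine TopCat.Sheaf.existsUnique_gluing' (abSheaf G) (fun i : ι => i.1) U (fun i => homOfLE i.2.1)
      (fun x hx => ?_) _ fun i j => ?_
    · obtain ⟨U', hU', hxU', hle⟩ := exists_small f hx
      exact Opens.mem_iSup.2 ⟨⟨U', hle, hU'⟩, hxU'⟩
    · show res G inf_le_left _ = res G inf_le_right _
      refine section_eq_of_locally fun x hx => ?_
      obtain ⟨U', hU', hxU', hle⟩ := exists_small f hx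
      refine ⟨U', hle, hxU', ?_⟩
      rw [res_res, res_res, res_loc f n hlin hord i.2.2 hU' (hle.trans inf_le_left),
        res_loc f n hlin hord j.2.2 hU' (hle.trans inf_le_right), res_res, res_res, resO_resO, resO_resO]
  obtain ⟨y, hy, huniq⟩ := hg
  exact ⟨y, fun U' h hU' => hy ⟨U', h, hU'⟩, fun z hz => huniq z fun i => hz i.1 i.2.1 i.2.2⟩

/-- The extension. -/
def beta (U : X.Opens) (t : Γ(F, U)) : Γ(PrinPart.nbhd f n, PrinPart.pr1 f n ⁻¹ᵁ U) →+ Γ(G, U) :=
  AddMonoidHom.mk' (fun c => (existsUnique_beta f n hlin hord U t c).choose) fun c d =>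
    ((existsUnique_beta f n hlin hord U t (c + d)).choose_spec.2 _ fun U' h hU' => by
      rw [map_add, (existsUnique_beta f n hlin hord U t c).choose_spec.1 U' h hU',
        (existsUnique_beta f n hlin hord U t d).choose_spec.1 U' h hU', map_add, map_add]).symm

theorem beta_eq {U : X.Opens} {t : Γ(F, U)} {c} {y : Γ(G, U)} (h : IsExtAll f n hlin hord U t c y) :
    beta f n hlin hord U t c = y :=
  ((existsUnique_beta f n hlin hord U t c).choose_spec.2 _ h).symm

theorem res_beta_small {U U' : X.Opens} (h : U' ≤ U) (hU' : Small f U') (t : Γ(F, U)) (c) :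
    res G h (beta f n hlin hord U t c) =
      loc f n hlin hord hU' (res F h t) (resO _ ((PrinPart.pr1 f n).preimage_mono h) c) :=
  (existsUnique_beta f n hlin hord U t c).choose_spec.1 U' h hU'

theorem beta_pmap (U : X.Opens) (t : Γ(F, U)) (a : Γ(X, U)) (c) :
    beta f n hlin hord U t (pmap f n U a * c) = a • beta f n hlin hord U t c :=
  beta_eq f n hlin hord fun U' h hU' => by
    rw [res_smul, res_beta_small f n hlin hord h hU', (resO _ _).map_mul, resO_pmap]
    generalize resO _ ((PrinPart.pr1 f n).preimage_mono h) c = d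
    refine small_induction f n hU' (fun d => resO X h a • loc f n hlin hord hU' (res F h t) d =
      loc f n hlin hord hU' (res F h t) (pmap f n U' (resO X h a) * d))
      (by simp only [mul_zero, map_zero, smul_zero])
      (fun c d hc hd => by simp only [mul_add, map_add, smul_add, hc, hd]) (fun x y => ?_) d
    rw [loc_spec, ← mul_assoc, ← map_mul, loc_spec, smul_smul]

theorem res_beta {U U' : X.Opens} (h : U' ≤ U) (t : Γ(F, U)) (c) :
    res G h (beta f n hlin hord U t c) =
      beta f n hlin hord U' (res F h t) (resO _ ((PrinPart.pr1 f n).preimage_mono h) c) :=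
  (beta_eq f n hlin hord fun W hW hWs => by
    rw [res_res, res_beta_small f n hlin hord (hW.trans h) hWs, res_res, resO_resO]).symm

theorem beta_add (U : X.Opens) (t t' : Γ(F, U)) (c) :
    beta f n hlin hord U (t + t') c = beta f n hlin hord U t c + beta f n hlin hord U t' c :=
  beta_eq f n hlin hord fun U' h hU' => by
    rw [map_add, map_add, res_beta_small f n hlin hord h hU', res_beta_small f n hlin hord h hU']
    generalize resO _ ((PrinPart.pr1 f n).preimage_mono h) c = d
    refine small_induction f n hU' (fun d => loc f n hlin hord hU' (res F h t) d + loc f n hlin hord hU' (res F h t') d =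
      loc f n hlin hord hU' (res F h t + res F h t') d) (by simp only [map_zero, add_zero])
      (fun c d hc hd => by simp only [map_add, ← hc, ← hd]; abel) (fun x y => ?_) d
    rw [loc_spec, loc_spec, loc_spec, smul_add, map_add, smul_add]

theorem beta_smul (U : X.Opens) (t : Γ(F, U)) (a : Γ(X, U)) (c) :
    beta f n hlin hord U (a • t) c = beta f n hlin hord U t (qmap f n U a * c) :=
  beta_eq f n hlin hord fun U' h hU' => by
    rw [res_beta_small f n hlin hord h hU', res_smul, (resO _ _).map_mul, resO_qmap]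
    generalize resO _ ((PrinPart.pr1 f n).preimage_mono h) c = d
    refine small_induction f n hU' (fun d => loc f n hlin hord hU' (res F h t) (qmap f n U' (resO X h a) * d) =
      loc f n hlin hord hU' (resO X h a • res F h t) d) (by simp only [mul_zero, map_zero])
      (fun c d hc hd => by simp only [mul_add, map_add, hc, hd]) (fun x y => ?_) d
    rw [mul_left_comm, ← map_mul, loc_spec, loc_spec, mul_comm (resO X h a), mul_smul]

theorem beta_one (U : X.Opens) (t : Γ(F, U)) : beta f n hlin hord U t 1 = dh D U t :=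
  beta_eq f n hlin hord fun U' h hU' => by
    have := loc_spec f n hlin hord hU' (res F h t) 1 1
    rw [map_one, map_one, _root_.one_mul, one_smul, one_smul] at this
    rw [res_dh, (resO _ _).map_one, this]

end Glue

theorem toNbhd_pr1_apply (x : X) : PrinPart.pr1 f n (PrinPart.toNbhd f n x) = x := by
  rw [← Scheme.Hom.comp_apply, PrinPart.toNbhd_pr1]; rfl

theorem pr1_toNbhd_apply (z : PrinPart.nbhd f n) : PrinPart.toNbhd f n (PrinPart.pr1 f n z) = z := by
  obtain ⟨x, rfl⟩ := PrinPart.toInfNbhd_surjective (PrinPart.diagCl f) n z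
  exact congrArg _ (toNbhd_pr1_apply f n x)

theorem le_of_preimage_le {U U₀ : X.Opens} (h : PrinPart.pr1 f n ⁻¹ᵁ U ≤ PrinPart.pr2 f n ⁻¹ᵁ U₀) : U ≤ U₀ :=
  fun x hx => by
    rw [← PrinPart.preimage_pr1] at h
    have := h (show PrinPart.toNbhd f n x ∈ PrinPart.pr1 f n ⁻¹ᵁ U from by
      show PrinPart.pr1 f n (PrinPart.toNbhd f n x) ∈ U
      rw [toNbhd_pr1_apply]; exact hx)
    change PrinPart.pr1 f n (PrinPart.toNbhd f n x) ∈ U₀ at this
    rwa [toNbhd_pr1_apply] at this

/-- The commutator conditions give a differential operator. -/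
theorem isDiffOpLE_of_ord (hlin : Lin f D) (hord : ∀ U, Ord (B := Γ(X, U)) (n + 1) (dh D U)) :
    PrinPart.IsDiffOpLE f F G n D := by
  let p := PrinPart.pr1 f n
  let q := PrinPart.pr2 f n
  let t₀ : X → PrinPart.nbhd f n := PrinPart.toNbhd f n
  let E := coind p G t₀ (PrinPart.toNbhd f n).continuous (pr1_toNbhd_apply f n) (toNbhd_pr1_apply f n)
  let fam : ∀ U₀ : X.Opens, Γ(F, U₀) →+ Fam p G (q ⁻¹ᵁ U₀) := fun U₀ => AddMonoidHom.mk'
    (fun t => ⟨fun U h => beta f n hlin hord U (res F (le_of_preimage_le f n h) t),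
      fun U h a c => beta_pmap f n hlin hord U _ a c,
      fun h' h c => by rw [res_beta f n hlin hord h', res_res]⟩)
    fun t t' => Fam.ext' fun U h c => by
      show beta f n hlin hord U (res F _ (t + t')) c = beta f n hlin hord U _ c + beta f n hlin hord U _ c
      rw [map_add, beta_add]
  let ψ : F ⟶ (Scheme.Modules.pushforward q).obj E :=
    ⟨PresheafOfModules.homMk
      { app := fun O => AddCommGrpCat.ofHom (X := Γ(F, O.unop)) (Y := Fam p G (q ⁻¹ᵁ O.unop)) (fam O.unop)
        naturality := fun O O' i => by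
          ext t
          refine Fam.ext' fun U h c => ?_
          show beta f n hlin hord U (res F _ (res F i.unop.le t)) c = beta f n hlin hord U (res F _ t) c
          rw [res_res] }
      fun O r t => Fam.ext' fun U h c => by
        show beta f n hlin hord U (res F _ ((show Γ(X, O.unop) from r) • (show Γ(F, O.unop) from t))) c =
          beta f n hlin hord U (res F _ t) (resO _ h (q.app O.unop r) * c)
        rw [res_smul, beta_smul]
        congr 2
        simp only [qmap, resO, Scheme.Hom.app_eq_appLE, q, ← CommRingCat.comp_apply, Scheme.Hom.map_appLE]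
        exact (congr($(Scheme.Hom.appLE_map (PrinPart.pr2 f n) le_rfl (homOfLE h).op) r)).symm⟩
  let adj := Scheme.Modules.pullbackPushforwardAdjunction q
  let α := (adj.homEquiv F E).symm ψ
  refine ⟨(Scheme.Modules.pushforward p).map α ≫
    ev p G t₀ (PrinPart.toNbhd f n).continuous (pr1_toNbhd_apply f n) (toNbhd_pr1_apply f n), fun U t => ?_⟩
  have hψ : adj.unit.app F ≫ (Scheme.Modules.pushforward q).map α = ψ :=
    (adj.homEquiv_unit _ _ _).symm.trans (Equiv.apply_symm_apply _ _)
  have h1 : α.app (q ⁻¹ᵁ U) (OmegaSh.pullSect q F U t) = ψ.app U t := congr(($hψ).app U t)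
  show _ = (α.app (p ⁻¹ᵁ U) (res _ (PrinPart.preimage_pr1 f n U).le (OmegaSh.pullSect q F U t)) :
    Fam p G (p ⁻¹ᵁ U)).val U le_rfl 1
  refine Eq.trans ?_ (congrArg (fun φ : Fam p G (p ⁻¹ᵁ U) => φ.val U le_rfl 1)
    ((QC.app_res α (PrinPart.preimage_pr1 f n U).le (OmegaSh.pullSect q F U t)).symm.trans (congrArg _ h1))).symm
  show _ = beta f n hlin hord U (res F _ t) 1
  rw [res_self, beta_one]
  rfl

/-- Differential operators are linear over the base and satisfy the commutator conditions. -/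
theorem of_isDiffOpLE (hD : PrinPart.IsDiffOpLE f F G n D) :
    Lin f D ∧ ∀ U, Ord (B := Γ(X, U)) (n + 1) (dh D U) := by
  classical
  obtain ⟨w, hw⟩ := hD
  have key : ∀ (U : X.Opens) (a b : Γ(X, U)) (t : Γ(F, U)),
      w.app U ((pmap f n U a * qmap f n U b) •
        (show Γ((Scheme.Modules.pullback (PrinPart.pr2 f n)).obj F, PrinPart.pr1 f n ⁻¹ᵁ U) from
          PrinPart.dP f n F U t)) = a • dh D U (b • t) := by
    intro U a b t
    have h1 : qmap f n U b • (show Γ((Scheme.Modules.pullback (PrinPart.pr2 f n)).obj F, PrinPart.pr1 f n ⁻¹ᵁ U) from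
        PrinPart.dP f n F U t) = PrinPart.dP f n F U (b • t) := by
      rw [PrinPart.dP_apply, PrinPart.dP_apply, OmegaSh.pullSect_smul]
      exact (res_smul _ (PrinPart.preimage_pr1 f n U).le _ _).symm
    rw [mul_smul, h1, show dh D U (b • t) = w.app U (PrinPart.dP f n F U (b • t)) from hw U (b • t)]
    exact Scheme.Modules.Hom.app_smul w a _
  refine ⟨fun V s U hU t => ?_, fun U ι _ a s hs t => ?_⟩
  · let a := X.presheaf.map (homOfLE hU).op (f.app V s)
    have hpq : pmap f n U a = qmap f n U a := by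
      have hh : ∀ (g g' : PrinPart.nbhd f n ⟶ S) (_ : g = g') e e',
          g.appLE V (PrinPart.pr1 f n ⁻¹ᵁ U) e s = g'.appLE V (PrinPart.pr1 f n ⁻¹ᵁ U) e' s := by
        rintro g g' rfl e e'; rfl
      simp only [pmap, qmap, a, Scheme.Hom.app_eq_appLE, ← CommRingCat.comp_apply, Scheme.Hom.appLE_map,
        Scheme.Hom.map_appLE, Scheme.Hom.appLE_comp_appLE]
      exact hh _ _ (PrinPart.pr1_comp f n) _ _
    have e1 := key U 1 a t
    have e2 := key U a 1 t
    rw [map_one, _root_.one_mul, one_smul] at e1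
    rw [map_one, _root_.mul_one, one_smul, hpq, e1] at e2
    exact e2
  · have h0 : ∏ i ∈ s, PrinSheaf.delta f n U (a i) = 0 := by
      let e := (Finset.equivFinOfCardEq hs).symm
      rw [← Finset.prod_coe_sort, ← Equiv.prod_comp e]
      exact PrinSheaf.prod_delta_eq_zero f n U _
    have h1 : ∏ i ∈ s, (qmap f n U (a i) - pmap f n U (a i)) = 0 := h0
    rw [Finset.prod_sub] at h1
    let M := (Scheme.Modules.pullback (PrinPart.pr2 f n)).obj F
    let m : Γ(M, PrinPart.pr1 f n ⁻¹ᵁ U) := PrinPart.dP f n F U t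
    let L : Γ(PrinPart.nbhd f n, PrinPart.pr1 f n ⁻¹ᵁ U) →+ Γ(G, U) := AddMonoidHom.mk' (fun c => w.app U (c • m))
      fun c d => by rw [add_smul]; exact map_add (w.app U).hom _ _
    have hL := congrArg L h1
    rw [map_sum, map_zero] at hL
    refine Eq.trans ?_ hL
    refine Finset.sum_congr rfl fun H _ => ?_
    rw [show ((-1 : Γ(PrinPart.nbhd f n, PrinPart.pr1 f n ⁻¹ᵁ U)) ^ H.card) =
      (((-1 : ℤ) ^ H.card : ℤ) : Γ(PrinPart.nbhd f n, PrinPart.pr1 f n ⁻¹ᵁ U)) by push_cast; rfl,
      mul_assoc, ← map_prod, ← map_prod, ← zsmul_eq_mul, map_zsmul, mul_comm]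
    exact congrArg _ (key U _ _ t).symm

end Groth.Agent.DiffOp
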