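import Groth.Agent.QC.Basic
import Mathlib.Topology.Sheaves.SheafCondition.UniqueGluing

/-!
# Coinduced modules along a morphism with a topological section
-/

set_option autoImplicit false
set_option backward.isDefEq.respectTransparency false
set_option linter.style.haveILetI false

universe u

open CategoryTheory CategoryTheory.Limits AlgebraicGeometry TopologicalSpace Opposite

noncomputable section

namespace Groth.Agent.DiffOp

open Groth.Agent.QC

variable {N X : Scheme.{u}} (p : N ⟶ X) (G : X.Modules)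

/-- Sections of the coinduced module: compatible semilinear maps out of the functions. -/
@[ext]
structure Fam (W : N.Opens) where
  /-- the members -/
  val : ∀ U : X.Opens, p ⁻¹ᵁ U ≤ W → (Γ(N, p ⁻¹ᵁ U) →+ Γ(G, U))
  lin : ∀ (U : X.Opens) (h : p ⁻¹ᵁ U ≤ W) (a : Γ(X, U)) (c : Γ(N, p ⁻¹ᵁ U)),
    val U h (p.app U a * c) = a • val U h c
  compat : ∀ {U U' : X.Opens} (h' : U' ≤ U) (h : p ⁻¹ᵁ U ≤ W) (c : Γ(N, p ⁻¹ᵁ U)),
    res G h' (val U h c) = val U' ((p.preimage_mono h').trans h) (resO N (p.preimage_mono h') c)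

variable {p G} {W : N.Opens}

theorem Fam.ext' {a b : Fam p G W} (h : ∀ U hU c, a.val U hU c = b.val U hU c) : a = b :=
  Fam.ext (funext fun U => funext fun hU => AddMonoidHom.ext (h U hU))

instance : Zero (Fam p G W) :=
  ⟨⟨fun _ _ => 0, fun _ _ a _ => (smul_zero a).symm, fun h' _ _ => map_zero (res G h')⟩⟩
instance : Add (Fam p G W) :=
  ⟨fun a b => ⟨fun U h => a.val U h + b.val U h,
    fun U h r c => by simp only [AddMonoidHom.add_apply, a.lin, b.lin, smul_add],
    fun h' h c => by simp only [AddMonoidHom.add_apply, map_add, a.compat, b.compat]⟩⟩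
instance : Neg (Fam p G W) :=
  ⟨fun a => ⟨fun U h => -a.val U h,
    fun U h r c => by simp only [AddMonoidHom.neg_apply, a.lin, smul_neg],
    fun h' h c => by simp only [AddMonoidHom.neg_apply, map_neg, a.compat]⟩⟩

theorem Fam.add_val (a b : Fam p G W) (U : X.Opens) (h : p ⁻¹ᵁ U ≤ W) (c : Γ(N, p ⁻¹ᵁ U)) :
    (a + b).val U h c = a.val U h c + b.val U h c := rfl

instance : AddCommGroup (Fam p G W) where
  add_assoc a b c := Fam.ext' fun _ _ _ => add_assoc _ _ _
  zero_add a := Fam.ext' fun _ _ _ => zero_add _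
  add_zero a := Fam.ext' fun _ _ _ => add_zero _
  add_comm a b := Fam.ext' fun _ _ _ => add_comm _ _
  neg_add_cancel a := Fam.ext' fun _ _ _ => neg_add_cancel _
  nsmul := nsmulRec
  zsmul := zsmulRec

instance : SMul Γ(N, W) (Fam p G W) :=
  ⟨fun r a => ⟨fun U h => (a.val U h).comp (AddMonoidHom.mulLeft (resO N h r)),
    fun U h x c => by
      show a.val U h (resO N h r * (p.app U x * c)) = x • a.val U h (resO N h r * c)
      rw [mul_left_comm, a.lin],
    fun {U U'} h' h c => by
      show res G h' (a.val U h (resO N h r * c)) = a.val U' _ (resO N _ r * resO N _ c)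
      rw [a.compat, map_mul, resO_resO]⟩⟩

theorem Fam.smul_val (r : Γ(N, W)) (a : Fam p G W) (U : X.Opens) (h : p ⁻¹ᵁ U ≤ W) (c : Γ(N, p ⁻¹ᵁ U)) :
    (r • a).val U h c = a.val U h (resO N h r * c) := rfl

instance : Module Γ(N, W) (Fam p G W) where
  one_smul a := Fam.ext' fun U h c => by rw [Fam.smul_val, map_one, _root_.one_mul]
  mul_smul r s a := Fam.ext' fun U h c => by
    rw [Fam.smul_val, Fam.smul_val, Fam.smul_val, (resO N h).map_mul, _root_.mul_comm (resO N h r), mul_assoc]
  smul_zero r := Fam.ext' fun U h c => rfl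
  smul_add r a b := Fam.ext' fun U h c => rfl
  add_smul r s a := Fam.ext' fun U h c => by
    rw [Fam.add_val, Fam.smul_val, Fam.smul_val, Fam.smul_val, map_add, add_mul, map_add]
  zero_smul a := Fam.ext' fun U h c => by
    rw [Fam.smul_val, map_zero, MulZeroClass.zero_mul, map_zero]; rfl

variable (p G) in
/-- The presheaf of families. -/
def famAb : TopCat.Presheaf Ab.{u} N where
  obj O := AddCommGrpCat.of (Fam p G O.unop)
  map {O O'} i := AddCommGrpCat.ofHom
    { toFun := fun a => ⟨fun U h => a.val U (h.trans i.unop.le), fun U h => a.lin U (h.trans i.unop.le),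
        fun h' h => a.compat h' (h.trans i.unop.le)⟩
      map_zero' := rfl
      map_add' := fun _ _ => rfl }

instance famModule (O : (Opens N)ᵒᵖ) : Module (N.ringCatSheaf.obj.obj O) ((famAb p G).obj O) :=
  inferInstanceAs (Module Γ(N, O.unop) (Fam p G O.unop))

theorem famAb_map_smul ⦃O O' : (Opens N)ᵒᵖ⦄ (i : O ⟶ O') (r : N.ringCatSheaf.obj.obj O) (m : (famAb p G).obj O) :
    (famAb p G).map i (r • m) = N.ringCatSheaf.obj.map i r • (famAb p G).map i m :=
  Fam.ext' fun U h c => congrArg (fun z => Fam.val (m : Fam p G O.unop) U (h.trans i.unop.le) (z * c))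
    (resO_resO h i.unop.le r).symm

theorem famAb_isSheaf (t : X → N) (ht : Continuous t) (hpt : ∀ z, t (p z) = z) (htp : ∀ x, p (t x) = x) :
    TopCat.Presheaf.IsSheaf (famAb p G) := by
  rw [TopCat.Presheaf.isSheaf_iff_isSheafUniqueGluing]
  intro ι W sf hsf
  let a : ∀ i, Fam p G (W i) := sf
  have hagree : ∀ (U : X.Opens) i j (hi : p ⁻¹ᵁ U ≤ W i) (hj : p ⁻¹ᵁ U ≤ W j) c,
      (a i).val U hi c = (a j).val U hj c := fun U i j hi hj c =>
    congrFun (congrArg (fun φ : Fam p G (W i ⊓ W j) => (φ.val U (le_inf hi hj) : _ → _)) (hsf i j)) c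
  let O : ι → X.Opens → X.Opens := fun i U => ⟨t ⁻¹' (W i : Set N), (W i).2.preimage ht⟩ ⊓ U
  have hOW : ∀ i U, p ⁻¹ᵁ (O i U) ≤ W i := fun i U z hz => by
    have := hz.1
    change t (p z) ∈ W i at this
    rwa [hpt] at this
  have hcov : ∀ U : X.Opens, p ⁻¹ᵁ U ≤ iSup W → U ≤ ⨆ i, O i U := fun U hU x hx => by
    obtain ⟨i, hi⟩ := Opens.mem_iSup.1 (hU (show t x ∈ p ⁻¹ᵁ U from by show p (t x) ∈ U; rwa [htp]))
    exact Opens.mem_iSup.2 ⟨i, hi, hx⟩
  let v : ∀ (U : X.Opens) (_ : Γ(N, p ⁻¹ᵁ U)) i, Γ(G, O i U) := fun U c i =>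
    (a i).val (O i U) (hOW i U) (resO N (p.preimage_mono inf_le_right) c)
  have hglue : ∀ (U : X.Opens), p ⁻¹ᵁ U ≤ iSup W → ∀ c, ∃! y : Γ(G, U),
      ∀ i, res G (inf_le_right : O i U ≤ U) y = v U c i := by
    intro U hU c
    refine TopCat.Sheaf.existsUnique_gluing' (abSheaf G) (fun i => O i U) U (fun i => homOfLE inf_le_right)
      (hcov U hU) (v U c) fun i j => ?_
    show res G inf_le_left ((a i).val (O i U) _ _) = res G inf_le_right ((a j).val (O j U) _ _)
    rw [(a i).compat, (a j).compat, resO_resO, resO_resO]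
    exact hagree _ _ _ _ _ _
  have huniq : ∀ (U : X.Opens) (hU : p ⁻¹ᵁ U ≤ iSup W) c (y : Γ(G, U)),
      (∀ i, res G (inf_le_right : O i U ≤ U) y = v U c i) → y = (hglue U hU c).choose :=
    fun U hU c y hy => (hglue U hU c).choose_spec.2 y hy
  have hspec : ∀ (U : X.Opens) (hU : p ⁻¹ᵁ U ≤ iSup W) c i,
      res G (inf_le_right : O i U ≤ U) (hglue U hU c).choose = v U c i :=
    fun U hU c => (hglue U hU c).choose_spec.1
  let b : Fam p G (iSup W) :=
    { val := fun U hU => AddMonoidHom.mk' (fun c => (hglue U hU c).choose) fun c d => (huniq U hU _ _ fun i => by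
        rw [map_add, hspec U hU, hspec U hU]
        simp only [v, map_add]).symm
      lin := fun U hU r c => (huniq U hU _ _ fun i => by
        show res G _ (r • (hglue U hU c).choose) = (a i).val (O i U) _ _
        rw [res_smul, hspec U hU, (resO N _).map_mul, show resO N (p.preimage_mono inf_le_right) (p.app U r) =
          p.app (O i U) (resO X inf_le_right r) from (congr($(p.naturality (homOfLE inf_le_right).op) r)).symm]
        exact ((a i).lin _ _ _ _).symm).symm
      compat := fun {U U'} h' hU c => huniq U' ((p.preimage_mono h').trans hU) _ _ fun i => by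
        show res G _ (res G h' (hglue U hU c).choose) = (a i).val (O i U') _ _
        rw [res_res, ← res_res G (inf_le_inf_left _ h' : O i U' ≤ O i U) (inf_le_right : O i U ≤ U), hspec U hU]
        simp only [v]
        rw [(a i).compat, resO_resO, resO_resO] }
  refine ⟨b, fun i => Fam.ext' fun U h c => ?_, fun b' hb' => Fam.ext' fun U hU c => huniq U hU c _ fun i => ?_⟩
  · refine (huniq U (h.trans (le_iSup W i)) c _ fun j => ?_).symm
    show res G _ ((a i).val U h c) = (a j).val (O j U) _ _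
    rw [(a i).compat]
    exact hagree _ _ _ _ _ _
  · rw [(b' : Fam p G (iSup W)).compat]
    exact congrFun (congrArg (fun φ : Fam p G (W i) => (φ.val (O i U) (hOW i U) : _ → _)) (hb' i)) _

variable (p G)

/-- The coinduced module. -/
def coind (t : X → N) (ht : Continuous t) (hpt : ∀ z, t (p z) = z) (htp : ∀ x, p (t x) = x) : N.Modules :=
  { val := PresheafOfModules.ofPresheaf (famAb p G) famAb_map_smul
    isSheaf := famAb_isSheaf t ht hpt htp }

/-- Evaluation at one. -/
def ev (t : X → N) (ht : Continuous t) (hpt : ∀ z, t (p z) = z) (htp : ∀ x, p (t x) = x) :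
    (Scheme.Modules.pushforward p).obj (coind p G t ht hpt htp) ⟶ G :=
  ⟨PresheafOfModules.homMk
    { app := fun O => AddCommGrpCat.ofHom (X := Fam p G (p ⁻¹ᵁ O.unop)) (Y := Γ(G, O.unop))
        (AddMonoidHom.mk' (fun φ : Fam p G (p ⁻¹ᵁ O.unop) => φ.val O.unop le_rfl 1) fun _ _ => rfl)
      naturality := fun O O' i => by
        ext φ
        show (φ : Fam p G (p ⁻¹ᵁ O.unop)).val O'.unop _ 1 =
          res G i.unop.le ((φ : Fam p G (p ⁻¹ᵁ O.unop)).val O.unop le_rfl 1)
        rw [Fam.compat, (resO N _).map_one] }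
    fun O r φ => by
      show (φ : Fam p G (p ⁻¹ᵁ O.unop)).val O.unop le_rfl (resO N le_rfl (p.app O.unop r) * 1) =
        (show Γ(X, O.unop) from r) • (φ : Fam p G (p ⁻¹ᵁ O.unop)).val O.unop le_rfl 1
      rw [resO_self]
      exact Fam.lin _ _ _ _ _⟩

end Groth.Agent.DiffOp
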